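import Cfsg.Agent.J4NonLocal.LTwoMax.El
import Cfsg.Agent.J4NonLocal.LTwoMax.Data.Five
import Cfsg.Agent.J4NonLocal.LTwoMax.Data.Elev
import Cfsg.Agent.J4Maximal.Base

/-!
The finite checks for the normalisers of elements of order 5 and 11 over the subgroup L₂(32):5.
-/

set_option autoImplicit false
set_option maxRecDepth 20000
set_option Elab.async false

namespace Cfsg.Lib.J4NonLocal.LTwoMax

open Cfsg.Lib.J4Cert Cfsg.Lib.J4Maximal

/-- The element of order 11 as a word in the generators. -/
def aW : List ℕ := (List.replicate 6 [1, 0, 2, 0, 3, 3, 1, 3, 3, 1, 0, 3, 1]).flatten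

/-- The letters that normalise the element of order 5, with their exponents. -/
def fiveExp : List (ℕ × ℕ) := [(0, 1), (2, 1), (3, 1), (5, 1), (6, 1), (7, 1), (8, 4), (9, 2)]

/-- The letters that normalise the element of order 11, with their exponents. -/
def elevExp : List (ℕ × ℕ) := [(4, 1), (0, 10), (3, 5), (2, 10), (10, 1), (11, 10), (12, 1), (13, 9)]

theorem head_ok : leq (letA pm 0) Borel.mU32 = true ∧ leq (letA pm 1) Borel.mT32 = true ∧
    leq (letA pm 2) Borel.mW32 = true ∧ leq (letA pm 3) Borel.mF32 = true ∧
    leq (letA pm 15) J4Eleven.mZ = true := by decide +kernel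

theorem a_eq_ok : sameW pm [4] aW = true := by decide +kernel
theorem a_conj_ok : sameW pm [4, 14] [14, 15] = true := by decide +kernel

theorem five_ok : (fiveExp.all fun e =>
    sameW pm ([e.1] ++ (List.replicate e.2 [3]).flatten) ([3] ++ [e.1])) = true := by decide +kernel

theorem elev_ok : (elevExp.all fun e =>
    sameW pm ([e.1] ++ (List.replicate e.2 [4]).flatten) ([4] ++ [e.1])) = true := by decide +kernel

theorem five_ne : sameW pm [3] [] = false := by decide +kernel
theorem elev_ne : sameW pm [4] [] = false := by decide +kernel

theorem five_shape : five.shapeOK ptabs 16 = true := by decide +kernel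
theorem five_keys : five.keysOK ptabs = true := by decide +kernel
theorem five_crt : five.crtOK ptabs 16 5 = true := by decide +kernel
theorem five_low : ((five.fix ++ five.lef ++ five.rig).all fun w => w.all fun k => Nat.blt k 5) = true := by
  decide +kernel
theorem five_in : ([five.fix, five.lef, five.reps, five.rig].all fun L => L.all fun w =>
    w.all fun k => (fiveExp.map Prod.fst).elem k) = true := by decide +kernel
theorem five_count : five.fix.length = 30 ∧ five.ents.length = 896 ∧ five.zeros.length = 1 := by decide +kernel

theorem elev_shape : elev.shapeOK ptabs 16 = true := by decide +kernel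
theorem elev_keys : elev.keysOK ptabs = true := by decide +kernel
theorem elev_crt : elev.crtOK ptabs 16 5 = true := by decide +kernel
theorem elev_low : ((elev.fix ++ elev.lef ++ elev.rig).all fun w => w.all fun k => Nat.blt k 5) = true := by
  decide +kernel
theorem elev_in : ([elev.fix, elev.lef, elev.reps, elev.rig].all fun L => L.all fun w =>
    w.all fun k => (elevExp.map Prod.fst).elem k) = true := by decide +kernel
theorem elev_count : elev.fix.length = 30 ∧ elev.ents.length = 10648 ∧ elev.zeros.length = 11 := by decide +kernel

/-- The exact row of the prime 5. -/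
def r5l : Row := ⟨5, [(2, 1), (3, 1), (5, 1)], 30, 0, 5⟩
/-- The exact row of the prime 31. -/
def r31l : Row := ⟨31, [(2, 1), (5, 1), (31, 1)], 310, 0, 31⟩

/-- The cofactor of the subgroup L₂(32):5. -/
def fkL : List (ℕ × ℕ) := [(2, 16), (3, 2), (7, 1), (11, 2), (23, 1), (29, 1), (37, 1), (43, 1)]

/-- The possible indices that are prime to 11 and congruent to 1 modulo 11 after the normaliser of order 330. -/
theorem survivors_ok : ((survivors 163680 fkL [r5l, r31l, r7 1, r23 1, r29, r37, r43 0]).filter fun k =>
    (163680 * k) % 121 != 0 && (163680 * k) % 330 == 0 && (163680 * k / 330) % 11 == 1) = [1] := by decide +kernel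

end Cfsg.Lib.J4NonLocal.LTwoMax
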