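import Cfsg.Agent.J4NonLocal.Pool
import Cfsg.Agent.J4NonLocal.Borel.Main
import Cfsg.Agent.J4Maximal.P11.El
import Cfsg.Agent.J4NonLocal.LTwoMax.Data.Tables
import Cfsg.Agent.J4NonLocal.LTwoMax.Data.Pool

/-!
The elements used for a subgroup L₂(32):5 and their matrices.
-/

set_option autoImplicit false
set_option maxRecDepth 20000
set_option Elab.async false

namespace Cfsg.Lib.J4NonLocal.LTwoMax

open Cfsg Cfsg.Lib.J4Cert Cfsg.Lib.J4NonLocal

/-- The matrices by index. -/
def nd (k : ℕ) : List ℕ :=
  bif Nat.blt k 926 then J4Maximal.P11.nd k else bif Nat.blt k 1123 then Borel.nd (k - 922) else ndTab.get (k - 1123)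

/-- The matrices of the pool. -/
def pm : List (List ℕ) := pnode.map nd

theorem nd_low : ∀ l < 4, nd l = letM l := by decide +kernel
theorem prog0_ok : progOK nd 1123 ndProg0 = true := by decide +kernel
theorem prog1_ok : progOK nd 1203 ndProg1 = true := by decide +kernel
theorem prog2_ok : progOK nd 1283 ndProg2 = true := by decide +kernel
theorem tabs_ok : poolOK pm ptabs = true := by decide +kernel
theorem pnode_lt : (pnode.all fun j => Nat.blt j 1303) = true := by decide +kernel
theorem pm_length : pm.length = 16 := by decide +kernel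

theorem nd_mem : ∀ j < 1303, ∃ g, MOK g (nd j) := by
  have h0 : ∀ j < 1123, ∃ g, MOK g (nd j) := fun j hj => by
    unfold nd
    by_cases h : j < 926
    · rw [show Nat.blt j 926 = true by simpa using h]
      exact J4Maximal.P11.nd_mem j h
    · rw [show Nat.blt j 926 = false by rw [← Bool.not_eq_true, Nat.blt_eq]; exact h,
        show Nat.blt j 1123 = true by simpa using hj]
      exact Borel.nd_mem (j - 922) (by omega)
  have h1 : ∀ j < 1203, ∃ g, MOK g (nd j) := progOK_sound nd_low ndProg0 1123 prog0_ok h0
  have h2 : ∀ j < 1283, ∃ g, MOK g (nd j) := progOK_sound nd_low ndProg1 1203 prog1_ok h1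
  have h3 : ∀ j < 1303, ∃ g, MOK g (nd j) := progOK_sound nd_low ndProg2 1283 prog2_ok h2
  exact h3

/-- The elements. -/
noncomputable def P : Pool pm ptabs := (exists_pool (mem_map_nd nd_mem pnode_lt) tabs_ok).some

end Cfsg.Lib.J4NonLocal.LTwoMax
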