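import Cfsg.Agent.J4NonLocal.LTwoMax.Checks
import Cfsg.Agent.J4NonLocal.Rows
import Cfsg.Agent.J4NonLocal.Normal
import Cfsg.Agent.J4NonLocal.Eleventh
import Cfsg.Agent.Classical.Misc.SmallPSL

/-!
The subgroup L₂(32):5 of the fourth Janko group is maximal.
-/

set_option autoImplicit false
set_option maxRecDepth 20000
set_option synthInstance.maxSize 4000
set_option linter.style.haveILetI false

namespace Cfsg.Lib.J4NonLocal.LTwoMax

open Cfsg Cfsg.Lib.J4Cert Cfsg.Lib.J4Maximal Subgroup Borel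

attribute [local irreducible] mB tabs4 vt pm ptabs five elev aW Borel.mU32 Borel.mT32 Borel.mW32 Borel.mF32

theorem el_head : P.el 0 = j32u ∧ P.el 1 = j32t ∧ P.el 2 = j32w ∧ P.el 3 = j32f ∧ P.el 15 = J4Eleven.eZ := by
  obtain ⟨h0, h1, h2, h3, h4⟩ := head_ok
  exact ⟨J4Eleven.eq_of_leq (P.ok 0) u_mok h0, J4Eleven.eq_of_leq (P.ok 1) t_mok h1,
    J4Eleven.eq_of_leq (P.ok 2) w_mok h2, J4Eleven.eq_of_leq (P.ok 3) f_mok h3,
    J4Eleven.eq_of_leq (P.ok 15) J4Eleven.eZ_ok h4⟩

theorem head_mem : ∀ k < 4, P.el k ∈ S32 := fun k hk => by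
  obtain ⟨h0, h1, h2, h3, -⟩ := el_head
  unfold S32
  interval_cases k <;> [rw [h0]; rw [h1]; rw [h2]; rw [h3]] <;> exact subset_closure (by simp)

theorem aW_lt : (aW.all fun k => Nat.blt k 4) = true := by decide +kernel

theorem low_mem : ∀ k < 5, P.el k ∈ S32 := fun k hk => by
  rcases Nat.lt_succ_iff_lt_or_eq.mp hk with h | rfl
  · exact head_mem k h
  · rw [← P.ev_single 4, P.ev_eq a_eq_ok]
    refine P.ev_mem fun j hj => head_mem j ?_
    have := List.all_eq_true.mp aW_lt j hj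
    simpa using this

/-- The element of order 5. -/
noncomputable def f5 : Spor.J4 := P.ev [3]

/-- The element of order 11. -/
noncomputable def a5 : Spor.J4 := P.ev [4]

theorem f5_order : orderOf f5 = 5 := by
  haveI : Fact (Nat.Prime 5) := ⟨by norm_num⟩
  refine orderOf_eq_prime ?_ (P.ev_ne_one five_ne)
  rw [f5, P.ev_single, el_head.2.2.2.1]
  exact rel_j.f_pow

theorem a5_conj : a5 * P.el 14 = P.el 14 * J4Eleven.eZ := by
  have h := P.ev_eq a_conj_ok
  simp only [P.ev_cons, P.ev_nil, mul_one, el_head.2.2.2.2] at h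
  rw [a5, P.ev_single]
  exact h

theorem a5_order : orderOf a5 = 11 := by
  have h : MulAut.conj (P.el 14) J4Eleven.eZ = a5 := by
    rw [MulAut.conj_apply, ← a5_conj, mul_inv_cancel_right]
  rw [← h, (MulAut.conj (P.el 14)).orderOf_eq]
  exact J4Eleven.two_classes.2.1

theorem card_S : Nat.card S32 = 163680 := by
  haveI := finite_J4
  obtain ⟨K, F, hF, hF', hc, -, hi, ⟨e⟩⟩ := exists_l32
  have h := Cfsg.Lib.Classical.SmallPSL.card_psl (F := F) hc
  norm_num at h
  rw [← K.card_mul_index, Nat.card_congr e.toEquiv, hi, h]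

variable (E : Env)
include E

theorem inf_five {H : Subgroup Spor.J4} (hH : ∀ k < 5, P.el k ∈ H) (hne : H ≠ ⊤) :
    Nat.card ↥(H ⊓ normalizer (zpowers f5 : Set Spor.J4)) = 30 := by
  haveI := finite_J4
  have hN : Nat.card ↥(normalizer (zpowers f5 : Set Spor.J4)) = 26880 :=
    E.norm 5 1 26880 (by simp) _ (by rw [Nat.card_zpowers, f5_order, pow_one])
  obtain ⟨h1, h2, h3⟩ := five_count
  unfold f5 at hN ⊢
  have h := five.forced P (nM := 5) (by rw [pm_length]; exact five_shape) five_keys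
    (by rw [pm_length]; exact five_crt) five_low (inside_of P five (P.normalizes five_ok) five_in)
    (by rw [h1, h2, hN]) (H := H) hH (E.not_big hne)
  rw [h.1, h1, h3]

theorem inf_eleven {H : Subgroup Spor.J4} (hH : ∀ k < 5, P.el k ∈ H) (hne : H ≠ ⊤) :
    Nat.card ↥(H ⊓ normalizer (zpowers a5 : Set Spor.J4)) = 330 := by
  haveI := finite_J4
  haveI : Fact (Nat.Prime 11) := ⟨by norm_num⟩
  have hc : Nat.card ↥(centralizer ({a5} : Set Spor.J4)) ≤ 31944 := by
    rw [card_cent_conj a5_conj, ← (Cfsg.Lib.JankoFour.ClassNumber.el_X Cfsg.Lib.JankoFour.ClassNumber.pool).2]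
    exact Nat.le_of_dvd (by norm_num)
      (Cfsg.Lib.JankoFour.ClassNumber.cent_Z11 Cfsg.Lib.JankoFour.ClassNumber.pool E.facts)
  have hN := (card_normalizer_zpowers_le a5_order).trans (Nat.mul_le_mul_left (11 - 1) hc)
  obtain ⟨h1, h2, h3⟩ := elev_count
  unfold a5 at hN ⊢
  have h := elev.forced P (nM := 5) (by rw [pm_length]; exact elev_shape) elev_keys
    (by rw [pm_length]; exact elev_crt) elev_low (inside_of P elev (P.normalizes elev_ok) elev_in)
    (by rw [h1, h2]; exact hN) (H := H) hH (E.not_big hne)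
  rw [h.1, h1, h3]

theorem isCoatom_S : IsCoatom S32 := by
  classical
  haveI := finite_J4
  haveI : Fact (Nat.Prime 11) := ⟨by norm_num⟩
  haveI : Fact (Nat.Prime 5) := ⟨by norm_num⟩
  haveI : Fact (Nat.Prime 31) := ⟨by norm_num⟩
  have hS := card_S
  have hSne : S32 ≠ ⊤ := fun e => by
    rw [e, card_top, E.card] at hS
    exact absurd hS (by decide)
  refine ⟨hSne, fun M hM => ?_⟩
  by_contra hne
  have hMg : ∀ k < 5, P.el k ∈ M := fun k hk => hM.le (low_mem k hk)
  obtain ⟨U5, hU5⟩ : ∃ U : Sylow 5 Spor.J4, (U : Subgroup Spor.J4) = zpowers f5 :=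
    ⟨Sylow.ofCard _ (by rw [Nat.card_zpowers, f5_order, E.part (n := 1) (by norm_num) (by decide +kernel) (by decide +kernel), pow_one]),
      Sylow.coe_ofCard _ _⟩
  have s5 : r5l.Sound (Nat.card M) := by
    refine sound_exact (q := 5) U5 ?_ ?_ ?_ (by decide) rfl (mod_q M)
    · rw [hU5, zpowers_le, f5, P.ev_single]
      exact hMg 3 (by norm_num)
    · rw [hU5, Nat.card_zpowers, f5_order]; rfl
    · rw [hU5, inf_five E hMg hne]; rfl
  obtain ⟨U, hU⟩ := exists_sylow_le (q := 31) (M := S32)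
    (E.part (n := 1) (by norm_num) (by decide +kernel) (by decide +kernel)) (by rw [hS]; norm_num)
  have hUc := E.sylow_card (n := 1) (by decide +kernel) (by decide +kernel) U
  have hN : Nat.card ↥(normalizer ((U : Subgroup Spor.J4) : Set Spor.J4)) = 310 := E.norm 31 1 310 (by simp) U hUc
  have hlow : Nat.card ↥(S32 ⊓ normalizer ((U : Subgroup Spor.J4) : Set Spor.J4)) = 310 :=
    inf_norm_forced hS U hU (nf := (r31 1).nf) (by simp [r31]; norm_num) (hN.trans (by decide)) hUc
      (v := 310) (by decide +kernel)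
  have he : Nat.card ↥(M ⊓ normalizer ((U : Subgroup Spor.J4) : Set Spor.J4)) = 310 :=
    Nat.dvd_antisymm (hN ▸ card_dvd_of_le inf_le_right) (hlow ▸ low_of_le hM.le U)
  have s31 : r31l.Sound (Nat.card M) :=
    sound_exact (q := 31) U (hU.trans hM.le) (hUc.trans (by decide)) (he.trans (by decide)) (by decide) rfl (mod_q M)
  have ha : a5 ∈ M := by rw [a5, P.ev_single]; exact hMg 4 (by norm_num)
  obtain ⟨hn, hd, hm⟩ := cyclic_count (p := 11) a5_order ha (inf_eleven E hMg hne) (by norm_num)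
  obtain ⟨k, hk, hMk⟩ := exists_index hM.le hS (fk := fkL) (by simp [fkL]; norm_num)
    (by rw [E.card]; decide +kernel) (rows := [r5l, r31l, r7 1, r23 1, r29, r37, r43 0]) (by
      intro r hr
      simp only [List.mem_cons, List.not_mem_nil, or_false] at hr
      rcases hr with rfl | rfl | rfl | rfl | rfl | rfl | rfl
      exacts [⟨by simp [r5l]; norm_num, s5⟩, ⟨by simp [r31l]; norm_num, s31⟩,
        ⟨by simp [r7]; norm_num, E.sound7 M⟩, ⟨by simp [r23]; norm_num, E.sound23 M⟩,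
        ⟨by simp [r29]; norm_num, E.sound29 M⟩, ⟨by simp [r37]; norm_num, E.sound37 M⟩,
        ⟨by simp [r43]; norm_num, E.sound43 M⟩])
  rw [hMk] at hn hd hm
  have hf := survivors_ok ▸ List.mem_filter.mpr ⟨hk, by
    simp only [Bool.and_eq_true, bne_iff_ne, beq_iff_eq, ne_eq, ← Nat.dvd_iff_mod_eq_zero]
    exact ⟨⟨hn, hd⟩, hm⟩⟩
  rw [List.mem_singleton] at hf
  subst hf
  exact hM.ne' (eq_of_index_one hM.le hS hMk)

theorem exists_maximal : ∃ M : Subgroup Spor.J4, IsCoatom M ∧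
    ∃ (K : Subgroup ↥M) (F : Type) (_ : Field F) (_ : Fintype F),
      Fintype.card F = 32 ∧ K.Normal ∧ K.index = 5 ∧
        Nonempty (↥K ≃* Matrix.ProjectiveSpecialLinearGroup (Fin 2) F) :=
  ⟨S32, isCoatom_S E, exists_l32⟩

end Cfsg.Lib.J4NonLocal.LTwoMax
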